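import Mathlib.AlgebraicGeometry.Morphisms.Separated
import Mathlib.AlgebraicGeometry.Properties
import Mathlib.AlgebraicGeometry.PullbackCarrier
/-!
Faithful actions of finite groups on integral separated schemes are almost free.
-/

set_option autoImplicit false
set_option backward.isDefEq.respectTransparency false
set_option backward.isDefEq.respectTransparency.types false
universe u

open CategoryTheory CategoryTheory.Limits AlgebraicGeometry Topology

namespace Groth.Agent.RatVarLib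

variable {X B : Scheme.{u}} (f : X ⟶ B) [IsIntegral X] [IsSeparated f]

theorem exists_closed_fixed (e : X ⟶ X) (he : e ≫ f = f) (hne : e ≠ 𝟙 X) :
    ∃ Z : Set ↥X, IsClosed Z ∧ Z ≠ Set.univ ∧
      ∀ (K : Scheme.{u}) (x : K ⟶ X), x ≫ e = x → Set.range x ⊆ Z := by
  let Γe : X ⟶ pullback f f := pullback.lift e (𝟙 X) (by rw [he, Category.id_comp])
  let ι := pullback.fst Γe (pullback.diagonal f)
  have hι : ι ≫ e = ι := by
    have h1 := congrArg (· ≫ pullback.fst f f) (pullback.condition (f := Γe) (g := pullback.diagonal f))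
    have h2 := congrArg (· ≫ pullback.snd f f) (pullback.condition (f := Γe) (g := pullback.diagonal f))
    simp only [Γe, Category.assoc, pullback.lift_fst, pullback.lift_snd, pullback.diagonal_fst,
      pullback.diagonal_snd, Category.comp_id] at h1 h2
    exact h1.trans h2.symm
  refine ⟨Set.range ι, ι.isClosedEmbedding.isClosed_range, fun hu => hne ?_, fun K x hx => ?_⟩
  · haveI : Surjective ι := ⟨Set.range_eq_univ.1 hu⟩
    haveI : IsIso ι := isIso_of_isClosedImmersion_of_surjective ι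
    exact (cancel_epi ι).1 (hι.trans (Category.comp_id ι).symm)
  · let l : K ⟶ pullback Γe (pullback.diagonal f) := pullback.lift x x (by
      apply pullback.hom_ext <;> simp [Γe, hx])
    rintro _ ⟨z, rfl⟩
    exact ⟨l z, by rw [← Scheme.Hom.comp_apply, pullback.lift_fst]⟩

theorem exists_free_open {G : Type u} [Group G] [Finite G] (ρ : G →* Aut X)
    (hρ : ∀ g : G, (ρ g).hom ≫ f = f) (hfaith : Function.Injective ρ) :
    ∃ U : X.Opens, (U : Set X).Nonempty ∧ (∀ g : G, (ρ g).hom ⁻¹ᵁ U = U) ∧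
      ∀ (K : Scheme.{u}) (x : K ⟶ X), Nonempty K →
        Set.range x.base ⊆ (U : Set X) → ∀ g : G, x ≫ (ρ g).hom = x → g = 1 := by
  classical
  have hex : ∀ g : G, ∃ Z : Set ↥X, IsClosed Z ∧ Z ≠ Set.univ ∧ (g ≠ 1 →
      ∀ (K : Scheme.{u}) (x : K ⟶ X), x ≫ (ρ g).hom = x → Set.range x ⊆ Z) := by
    intro g
    by_cases hg : g = 1
    · exact ⟨∅, isClosed_empty, fun h => (h.symm ▸ Set.notMem_empty (genericPoint X) : genericPoint X ∉ Set.univ) trivial,
        fun h => absurd hg h⟩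
    · obtain ⟨Z, h1, h2, h3⟩ := exists_closed_fixed f (ρ g).hom (hρ g) fun h => hg (hfaith (by
        rw [map_one]
        exact Aut.ext h))
      exact ⟨Z, h1, h2, fun _ => h3⟩
  choose Z hZc hZu hZ using hex
  let U₀ : X.Opens := ⟨(⋃ g, Z g)ᶜ, (isClosed_iUnion_of_finite hZc).isOpen_compl⟩
  let U : X.Opens := ⟨⋂ g : G, (ρ g).hom ⁻¹' (U₀ : Set ↥X),
    isOpen_iInter_of_finite fun g => U₀.2.preimage (ρ g).hom.continuous⟩
  have hη : ∀ W : X.Opens, (W : Set ↥X).Nonempty → genericPoint X ∈ W :=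
    fun W hW => (genericPoint_spec X).mem_open_set_iff W.2 |>.2 (by simpa using hW)
  have hU₀ : (U₀ : Set ↥X).Nonempty := by
    refine ⟨genericPoint X, fun h => ?_⟩
    obtain ⟨g, hg⟩ := Set.mem_iUnion.1 h
    refine hZu g (Set.univ_subset_iff.1 ?_)
    rw [← (genericPoint_spec X)]
    exact (hZc g).closure_subset_iff.2 (Set.singleton_subset_iff.2 hg)
  refine ⟨U, ⟨genericPoint X, Set.mem_iInter.2 fun g => ?_⟩, fun g => ?_, fun K x ⟨z⟩ hx g hg => ?_⟩
  · exact hη ((ρ g).hom ⁻¹ᵁ U₀) (hU₀.preimage (ρ g).hom.surjective)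
  · ext y
    show (ρ g).hom y ∈ ⋂ h : G, (ρ h).hom ⁻¹' (U₀ : Set ↥X) ↔ y ∈ ⋂ h : G, (ρ h).hom ⁻¹' (U₀ : Set ↥X)
    simp only [Set.mem_iInter, Set.mem_preimage]
    have e : ∀ h, (ρ h).hom ((ρ g).hom y) = (ρ (h * g)).hom y := fun h => by
      rw [map_mul]; rfl
    simp only [e]
    exact ⟨fun H h => by simpa using H (h * g⁻¹), fun H h => H (h * g)⟩
  · by_contra hg1
    have h1 := Set.mem_iInter.1 (hx ⟨z, rfl⟩) 1
    rw [map_one] at h1
    exact h1 (Set.mem_iUnion.2 ⟨g, hZ g hg1 K x hg ⟨z, rfl⟩⟩)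

end Groth.Agent.RatVarLib
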